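import Mathlib
import Groth.Prelude.Def_CohB1

/-!
# Codimension one irreducible closed subsets of projective space
-/

set_option autoImplicit false
universe u

namespace Groth.Agent.ProjCodim

open MvPolynomial

variable {k : Type u} [Field k] {σ : Type}

/-- Multiply every variable by a new variable. -/
noncomputable def scale : MvPolynomial σ k →ₐ[k] Polynomial (MvPolynomial σ k) :=
  aeval fun i => Polynomial.C (X i) * Polynomial.X

theorem scale_coeff (p : MvPolynomial σ k) (j : ℕ) : (scale p).coeff j = homogeneousComponent j p := by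
  induction p using MvPolynomial.induction_on' with
  | monomial α c =>
    classical
    have h : scale (monomial α c) = Polynomial.C (monomial α c) * Polynomial.X ^ α.degree := by
      rw [scale, aeval_monomial, IsScalarTower.algebraMap_apply k (MvPolynomial σ k) (Polynomial (MvPolynomial σ k))]
      simp only [Finsupp.prod, mul_pow, Finset.prod_mul_distrib, ← Polynomial.C_pow, ← map_prod,
        Finset.prod_pow_eq_pow_sum, Finsupp.degree_apply]
      rw [← mul_assoc, Polynomial.algebraMap_eq, ← map_mul, MvPolynomial.algebraMap_eq, monomial_eq]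
      rfl
    rw [h, Polynomial.coeff_C_mul_X_pow, homogeneousComponent_of_mem (isHomogeneous_monomial c rfl)]
  | add p q hp hq => simp [hp, hq]

theorem isHomogeneous_of_mul {p q : MvPolynomial σ k} {d : ℕ} (h : (p * q).IsHomogeneous d) (hpq : p * q ≠ 0) :
    ∃ j, p.IsHomogeneous j := by
  classical
  have hp : p ≠ 0 := left_ne_zero_of_mul hpq
  have hs : scale p * scale q = Polynomial.C (p * q) * Polynomial.X ^ d := by
    rw [← map_mul]
    ext j
    rw [scale_coeff, Polynomial.coeff_C_mul_X_pow, homogeneousComponent_of_mem h]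
  have hsp : scale p ≠ 0 := by
    intro h0
    rw [h0, zero_mul, eq_comm, mul_eq_zero] at hs
    rcases hs with h | h
    · exact hpq (Polynomial.C_eq_zero.1 h)
    · exact pow_ne_zero _ Polynomial.X_ne_zero h
  have hsq : scale q ≠ 0 := by
    intro h0
    rw [h0, mul_zero, eq_comm, mul_eq_zero] at hs
    rcases hs with h | h
    · exact hpq (Polynomial.C_eq_zero.1 h)
    · exact pow_ne_zero _ Polynomial.X_ne_zero h
  have h1 : (scale p * scale q).natDegree = d := by
    rw [hs, Polynomial.natDegree_C_mul_X_pow _ _ hpq]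
  have h2 : (scale p * scale q).natTrailingDegree = d := by
    rw [hs, Polynomial.C_mul_X_pow_eq_monomial, Polynomial.natTrailingDegree_monomial hpq]
  rw [Polynomial.natDegree_mul hsp hsq] at h1
  rw [Polynomial.natTrailingDegree_mul hsp hsq] at h2
  have h3 := Polynomial.natTrailingDegree_le_natDegree (scale p)
  have h4 := Polynomial.natTrailingDegree_le_natDegree (scale q)
  set e := (scale p).natDegree with he
  clear_value e
  refine ⟨e, ?_⟩
  have hz : ∀ j, j ≠ e → homogeneousComponent j p = 0 := fun j hj => by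
    rw [← scale_coeff]
    rcases lt_or_gt_of_ne hj with h | h
    · exact Polynomial.coeff_eq_zero_of_lt_natTrailingDegree (by omega)
    · exact Polynomial.coeff_eq_zero_of_natDegree_lt (he ▸ h)
  rw [← sum_homogeneousComponent p]
  refine IsHomogeneous.sum _ _ _ fun j _ => ?_
  rcases eq_or_ne j e with rfl | hj
  · exact homogeneousComponent_isHomogeneous _ p
  · rw [hz j hj]; exact isHomogeneous_zero _ _ _

variable {n : ℕ}

local notation "𝒜" => CohB1.polyGrading n k

/-- The prime of an irreducible closed subset. -/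
noncomputable def idealOf (Z : TopologicalSpace.IrreducibleCloseds (ProjectiveSpectrum 𝒜)) :
    HomogeneousIdeal 𝒜 :=
  ProjectiveSpectrum.vanishingIdeal (Z : Set (ProjectiveSpectrum 𝒜))

theorem zeroLocus_idealOf (Z : TopologicalSpace.IrreducibleCloseds (ProjectiveSpectrum 𝒜)) :
    ProjectiveSpectrum.zeroLocus 𝒜 (idealOf Z : Set (MvPolynomial (Fin (n + 1)) k)) = Z := by
  rw [idealOf, ProjectiveSpectrum.zeroLocus_vanishingIdeal_eq_closure, Z.isClosed.closure_eq]

theorem exists_mem_homogeneous (Z : TopologicalSpace.IrreducibleCloseds (ProjectiveSpectrum 𝒜))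
    {x : MvPolynomial (Fin (n + 1)) k} (hx : x ∈ (idealOf Z).toIdeal) (j : ℕ) :
    homogeneousComponent j x ∈ (idealOf Z).toIdeal := by
  have := (idealOf Z).isHomogeneous j hx
  rwa [show (DirectSum.decompose 𝒜 x j : MvPolynomial (Fin (n + 1)) k) = homogeneousComponent j x from
    MvPolynomial.decomposition.decompose'_apply x j] at this

theorem isPrime_idealOf (Z : TopologicalSpace.IrreducibleCloseds (ProjectiveSpectrum 𝒜)) :
    (idealOf Z).toIdeal.IsPrime := by
  classical
  obtain ⟨p, hp⟩ := Z.isIrreducible.nonempty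
  refine ⟨fun htop => p.isPrime.ne_top ?_, fun {a b} hab => ?_⟩
  · rw [Ideal.eq_top_iff_one] at htop ⊢
    exact (ProjectiveSpectrum.mem_vanishingIdeal _ _).1 htop p hp
  · have hcov : (Z : Set (ProjectiveSpectrum 𝒜)) ⊆
        ProjectiveSpectrum.zeroLocus 𝒜 {a} ∪ ProjectiveSpectrum.zeroLocus 𝒜 {b} := by
      intro q hq
      have := (ProjectiveSpectrum.mem_vanishingIdeal _ _).1 hab q hq
      rcases q.isPrime.mem_or_mem this with h | h
      · exact Or.inl (by simpa [ProjectiveSpectrum.mem_zeroLocus] using h)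
      · exact Or.inr (by simpa [ProjectiveSpectrum.mem_zeroLocus] using h)
    rcases isPreirreducible_iff_isClosed_union_isClosed.1 Z.isIrreducible.2 _ _
      (ProjectiveSpectrum.isClosed_zeroLocus 𝒜 _) (ProjectiveSpectrum.isClosed_zeroLocus 𝒜 _) hcov with h | h
    · exact Or.inl ((ProjectiveSpectrum.mem_vanishingIdeal _ _).2 fun q hq => by
        simpa [ProjectiveSpectrum.mem_zeroLocus] using h hq)
    · exact Or.inr ((ProjectiveSpectrum.mem_vanishingIdeal _ _).2 fun q hq => by
        simpa [ProjectiveSpectrum.mem_zeroLocus] using h hq)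

theorem relevant (Z : TopologicalSpace.IrreducibleCloseds (ProjectiveSpectrum 𝒜)) :
    ¬ HomogeneousIdeal.irrelevant 𝒜 ≤ idealOf Z := by
  obtain ⟨p, hp⟩ := Z.isIrreducible.nonempty
  intro h
  exact p.not_irrelevant_le fun x hx => (ProjectiveSpectrum.mem_vanishingIdeal _ _).1 (h hx) p hp

theorem le_iff {Z W : TopologicalSpace.IrreducibleCloseds (ProjectiveSpectrum 𝒜)} :
    Z ≤ W ↔ idealOf W ≤ idealOf Z := by
  refine ⟨fun h => ProjectiveSpectrum.vanishingIdeal_anti_mono 𝒜 h, fun h => ?_⟩
  show (Z : Set (ProjectiveSpectrum 𝒜)) ⊆ W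
  rw [← zeroLocus_idealOf Z, ← zeroLocus_idealOf W]
  exact ProjectiveSpectrum.zeroLocus_anti_mono_homogeneousIdeal 𝒜 h

theorem exists_point (P : HomogeneousIdeal 𝒜) (hP : P.toIdeal.IsPrime)
    (hrel : ¬ HomogeneousIdeal.irrelevant 𝒜 ≤ P) :
    ∃ W : TopologicalSpace.IrreducibleCloseds (ProjectiveSpectrum 𝒜), idealOf W = P := by
  let p : ProjectiveSpectrum 𝒜 := ⟨P, hP, hrel⟩
  refine ⟨⟨closure {p}, isIrreducible_singleton.closure, isClosed_closure⟩, ?_⟩
  show ProjectiveSpectrum.vanishingIdeal (closure {p}) = P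
  rw [ProjectiveSpectrum.vanishingIdeal_closure]
  exact ProjectiveSpectrum.vanishingIdeal_singleton p

theorem span_isHomogeneous {d : ℕ} {f : MvPolynomial (Fin (n + 1)) k} (hf : f.IsHomogeneous d) :
    (Ideal.span {f}).IsHomogeneous 𝒜 :=
  Ideal.homogeneous_span 𝒜 _ fun x hx =>
    ⟨d, by rw [Set.mem_singleton_iff.1 hx]; exact (MvPolynomial.mem_homogeneousSubmodule _ _).2 hf⟩

theorem exists_irreducible_mem (Z : TopologicalSpace.IrreducibleCloseds (ProjectiveSpectrum 𝒜))
    (h : idealOf Z ≠ ⊥) :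
    ∃ (d : ℕ) (f : MvPolynomial (Fin (n + 1)) k), f.IsHomogeneous d ∧ Irreducible f ∧ f ∈ (idealOf Z).toIdeal := by
  have hne : (idealOf Z).toIdeal ≠ ⊥ := fun h0 => h (HomogeneousIdeal.toIdeal_injective (by rw [h0]; rfl))
  obtain ⟨x, hx, hx0⟩ := Submodule.exists_mem_ne_zero_of_ne_bot hne
  obtain ⟨j, hj⟩ : ∃ j, homogeneousComponent j x ≠ 0 := by
    by_contra hc
    push Not at hc
    exact hx0 (by rw [← sum_homogeneousComponent x, Finset.sum_eq_zero fun j _ => hc j])
  set y := homogeneousComponent j x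
  have hy : y ∈ (idealOf Z).toIdeal := exists_mem_homogeneous Z hx j
  obtain ⟨s, hs1, hs2⟩ := UniqueFactorizationMonoid.exists_prime_factors y hj
  haveI := isPrime_idealOf Z
  have hs : s.prod ∈ (idealOf Z).toIdeal := by
    obtain ⟨v, hv⟩ := hs2.symm
    rw [← hv]
    exact Ideal.mul_mem_right _ _ hy
  obtain ⟨f, hfs, hf⟩ := (Ideal.IsPrime.multiset_prod_mem_iff_exists_mem ‹_› s).1 hs
  obtain ⟨q, hq⟩ : f ∣ y := (Multiset.dvd_prod hfs).trans hs2.dvd
  obtain ⟨d, hd⟩ := isHomogeneous_of_mul (d := j) (hq ▸ homogeneousComponent_isHomogeneous j x) (hq ▸ hj)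
  exact ⟨d, f, hd, (hs1 f hfs).irreducible, hf⟩

theorem main (Z : TopologicalSpace.IrreducibleCloseds (ProjectiveSpectrum 𝒜)) :
    Order.coheight Z = 1 ↔
      ∃ (d : ℕ) (f : MvPolynomial (Fin (n + 1)) k), f.IsHomogeneous d ∧ Irreducible f ∧
        (Z : Set (ProjectiveSpectrum 𝒜)) =
          ProjectiveSpectrum.zeroLocus 𝒜 ({f} : Set (MvPolynomial (Fin (n + 1)) k)) := by
  classical
  have hbotprime : (⊥ : HomogeneousIdeal 𝒜).toIdeal.IsPrime := Ideal.isPrime_bot
  have hbotrel : ¬ HomogeneousIdeal.irrelevant 𝒜 ≤ (⊥ : HomogeneousIdeal 𝒜) := fun h =>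
    relevant Z (h.trans bot_le)
  obtain ⟨T, hT⟩ := exists_point ⊥ hbotprime hbotrel
  have hlt : ∀ {V W : TopologicalSpace.IrreducibleCloseds (ProjectiveSpectrum 𝒜)},
      V < W ↔ idealOf W < idealOf V := fun {V W} => by rw [lt_iff_le_not_ge, lt_iff_le_not_ge, le_iff, le_iff]
  have htop : ∀ W, W ≤ T := fun W => by rw [le_iff, hT]; exact bot_le
  have hspan : ∀ {d : ℕ} {f : MvPolynomial (Fin (n + 1)) k}, f.IsHomogeneous d → Irreducible f →
      f ∈ (idealOf Z).toIdeal →
      ∃ W : TopologicalSpace.IrreducibleCloseds (ProjectiveSpectrum 𝒜), Z ≤ W ∧ W < T ∧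
        (idealOf W).toIdeal = Ideal.span {f} := by
    intro d f hfd hfi hfZ
    let P : HomogeneousIdeal 𝒜 := ⟨Ideal.span {f}, span_isHomogeneous hfd⟩
    have hP : P.toIdeal.IsPrime := (Ideal.span_singleton_prime hfi.ne_zero).2 hfi.prime
    have hle : P ≤ idealOf Z := fun x hx =>
      (Ideal.span_singleton_le_iff_mem _).2 hfZ hx
    obtain ⟨W, hW⟩ := exists_point P hP (fun h => relevant Z (h.trans hle))
    refine ⟨W, le_iff.2 (hW.symm ▸ hle), hlt.2 ?_, by rw [hW]⟩
    rw [hT, hW, bot_lt_iff_ne_bot]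
    intro h
    have : f ∈ (⊥ : HomogeneousIdeal 𝒜).toIdeal := h ▸ Ideal.mem_span_singleton_self f
    exact hfi.ne_zero this
  constructor
  · intro hco
    have hne : idealOf Z ≠ ⊥ := by
      intro h0
      have hmax : IsMax Z := fun W _ => le_iff.2 (h0 ▸ bot_le)
      rw [Order.coheight_eq_zero.2 hmax] at hco
      exact zero_ne_one hco
    obtain ⟨d, f, hfd, hfi, hfZ⟩ := exists_irreducible_mem Z hne
    obtain ⟨W, hZW, hWT, hW⟩ := hspan hfd hfi hfZ
    refine ⟨d, f, hfd, hfi, ?_⟩
    rcases hZW.eq_or_lt with h | h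
    · rw [← zeroLocus_idealOf Z, h]
      show ProjectiveSpectrum.zeroLocus 𝒜 ((idealOf W).toIdeal : Set _) = _
      rw [hW, ProjectiveSpectrum.zeroLocus_span]
    · exfalso
      have h1 : Order.coheight W + 1 ≤ Order.coheight Z := Order.coheight_add_one_le h
      have h2 : Order.coheight T + 1 ≤ Order.coheight W := Order.coheight_add_one_le hWT
      rw [hco] at h1
      have h3 : (1 : ℕ∞) ≤ Order.coheight W := le_trans le_add_self h2
      have := le_trans (add_le_add_left h3 1) h1
      exact absurd this (by decide)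
  · rintro ⟨d, f, hfd, hfi, hZ⟩
    have hfZ : f ∈ (idealOf Z).toIdeal := (ProjectiveSpectrum.mem_vanishingIdeal _ _).2 fun q hq => by
      rw [hZ, ProjectiveSpectrum.mem_zeroLocus] at hq
      exact hq rfl
    obtain ⟨W, hZW, hWT, hW⟩ := hspan hfd hfi hfZ
    have hWZ : W = Z := by
      refine le_antisymm ?_ hZW
      show (W : Set (ProjectiveSpectrum 𝒜)) ⊆ Z
      rw [hZ, ← zeroLocus_idealOf W]
      show ProjectiveSpectrum.zeroLocus 𝒜 ((idealOf W).toIdeal : Set _) ⊆ _
      rw [hW, ProjectiveSpectrum.zeroLocus_span]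
    subst hWZ
    refine le_antisymm ?_ ?_
    · rw [Order.coheight_le_iff']
      intro l hl
      by_contra hlen
      have hl2 : 2 ≤ l.length := by
        by_contra h2
        exact hlen (by exact_mod_cast (by omega : l.length ≤ 1))
      have h01 : W < l ⟨1, by omega⟩ := by
        rw [← hl]; exact l.strictMono (by simp [Fin.lt_def])
      have h12 : l ⟨1, by omega⟩ < l ⟨2, by omega⟩ := l.strictMono (by simp [Fin.lt_def])
      set V := l ⟨1, by omega⟩
      have hVne : idealOf V ≠ ⊥ := fun h0 => by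
        have hV := h12.trans_le (htop _)
        rw [hlt, hT, h0] at hV
        exact lt_irrefl _ hV
      obtain ⟨d', g, hgd, hgi, hgV⟩ := exists_irreducible_mem V hVne
      have hgW : g ∈ Ideal.span {f} := hW ▸ (hlt.1 h01).le hgV
      obtain ⟨c, hc⟩ := Ideal.mem_span_singleton.1 hgW
      have hfV : f ∈ (idealOf V).toIdeal := by
        rcases hgi.isUnit_or_isUnit hc with h | h
        · exact absurd h hfi.not_isUnit
        · obtain ⟨v, rfl⟩ := h
          rw [show f = g * ↑v⁻¹ by rw [hc, mul_assoc, v.mul_inv, mul_one]]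
          exact Ideal.mul_mem_right _ _ hgV
      refine (hlt.1 h01).not_ge ?_
      intro x hx
      have hx' : x ∈ (idealOf W).toIdeal := hx
      rw [hW] at hx'
      exact (Ideal.span_singleton_le_iff_mem _).2 hfV hx'
    · refine le_trans ?_ (Order.coheight_add_one_le hWT)
      exact le_add_self

end Groth.Agent.ProjCodim
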